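import Groth.Agent.EtPt19.Slice
import Mathlib.CategoryTheory.Sites.Point.Category

/-! Every point of the small etale site of an algebraic space has the fibre functor `liftsTo p` of a
geometric point `p`. -/

set_option linter.all false
set_option backward.isDefEq.respectTransparency false
set_option backward.isDefEq.respectTransparency.types false

universe u

open CategoryTheory Limits AlgebraicGeometry Opposite
open AlgSp

namespace Groth.Agent.EtPt19

variable {S : Scheme.{u}} {X : Sp S} (P : GrothendieckTopology.Point.{u} (etTop X))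
  {E₀ : EtOver X} (e₀ : P.fiber.obj E₀)

lemma exists_unique_pair {E : EtOver X} (x : P.fiber.obj E) :
    ∃! x' : P.fiber.obj (EtOver.prodObj E₀ E),
      P.fiber.map (EtOver.prodFst E₀ E) x' = e₀ ∧ P.fiber.map (EtOver.prodSnd E₀ E) x' = x := by
  let a0 : P.fiber.Elements := ⟨E₀, e₀⟩
  let a1 : P.fiber.Elements := ⟨E, x⟩
  obtain ⟨⟨T, t⟩, ⟨α, hα⟩, ⟨β, hβ⟩, -⟩ := IsCofilteredOrEmpty.cone_objs a0 a1
  obtain ⟨L, hL1, hL2⟩ : { l : T ⟶ EtOver.prodObj E₀ E //
      l ≫ EtOver.prodFst E₀ E = α ∧ l ≫ EtOver.prodSnd E₀ E = β } :=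
    BinaryFan.IsLimit.lift' (EtOver.prodIsLimit E₀ E) α β
  have hex : P.fiber.map (EtOver.prodFst E₀ E) (P.fiber.map L t) = e₀ ∧
      P.fiber.map (EtOver.prodSnd E₀ E) (P.fiber.map L t) = x := by
    constructor
    · rw [← Functor.map_comp_apply]
      exact (congrArg (fun k => P.fiber.map k t) hL1).trans hα
    · rw [← Functor.map_comp_apply]
      exact (congrArg (fun k => P.fiber.map k t) hL2).trans hβ
  refine ⟨_, hex, fun y hy => ?_⟩
  let b0 : P.fiber.Elements := ⟨_, y⟩
  let b1 : P.fiber.Elements := ⟨_, P.fiber.map L t⟩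
  obtain ⟨T₁, a, b, -⟩ := IsCofilteredOrEmpty.cone_objs b0 b1
  let f0 : T₁ ⟶ a0 := a ≫ (⟨EtOver.prodFst E₀ E, hy.1⟩ : b0 ⟶ a0)
  let f0' : T₁ ⟶ a0 := b ≫ (⟨EtOver.prodFst E₀ E, hex.1⟩ : b1 ⟶ a0)
  obtain ⟨T₂, c, hc⟩ := IsCofilteredOrEmpty.cone_maps f0 f0'
  let f1 : T₂ ⟶ a1 := c ≫ a ≫ (⟨EtOver.prodSnd E₀ E, hy.2⟩ : b0 ⟶ a1)
  let f1' : T₂ ⟶ a1 := c ≫ b ≫ (⟨EtOver.prodSnd E₀ E, hex.2⟩ : b1 ⟶ a1)
  obtain ⟨T₃, d, hd⟩ := IsCofilteredOrEmpty.cone_maps f1 f1'
  have key : (d ≫ c ≫ a).1 = (d ≫ c ≫ b).1 := by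
    refine BinaryFan.IsLimit.hom_ext (EtOver.prodIsLimit E₀ E) ?_ ?_
    · have := congrArg Subtype.val (congrArg (fun k => d ≫ k) hc)
      simp only [f0, f0', CategoryOfElements.comp_val, Category.assoc] at this ⊢
      exact this
    · have := congrArg Subtype.val hd
      simp only [f1, f1', CategoryOfElements.comp_val, Category.assoc] at this ⊢
      exact this
  exact (d ≫ c ≫ a).2.symm.trans ((congrArg (fun k => P.fiber.map k T₃.2) key).trans (d ≫ c ≫ b).2)

variable {Ω : Type u} [Field Ω] {ξ : Spec (CommRingCat.of Ω) ⟶ E₀.obj.left.left} [IsSepClosed Ω]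
  (φ : (slicePoint P e₀).fiber ≅ (Scheme.pointSmallEtale ξ).fiber)

/-- The geometric point of `X` defined by `ξ` and an algebraic closure. -/
noncomputable def geomMap : Spec (CommRingCat.of (AlgebraicClosure Ω)) ⟶ Spec (CommRingCat.of Ω) :=
  Spec.map (CommRingCat.ofHom (algebraMap Ω (AlgebraicClosure Ω)))

variable (ξ) in
/-- The lift of the geometric point to the chart. -/
noncomputable def geomLift :
    Over.mk ((geomMap ≫ ξ) ≫ E₀.obj.left.hom) ⟶ E₀.obj.left :=
  Over.homMk (geomMap ≫ ξ) rfl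

variable (ξ) in
/-- The geometric point of `X`. -/
noncomputable def geomPt : FieldPt X where
  K := AlgebraicClosure Ω
  str := (geomMap ≫ ξ) ≫ E₀.obj.left.hom
  val := (J S).uliftYonedaEquiv ((yon S).map (geomLift ξ) ≫ E₀.obj.hom)

lemma geomPt_toHom : (geomPt ξ).toHom = (yon S).map (geomLift ξ) ≫ E₀.obj.hom :=
  (J S).uliftYonedaEquiv.symm_apply_apply _

/-- The element over `(e₀, x)`. -/
noncomputable def pair {E : EtOver X} (x : P.fiber.obj E) : P.fiber.obj (EtOver.prodObj E₀ E) :=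
  (exists_unique_pair P e₀ x).exists.choose

lemma pair_fst {E : EtOver X} (x : P.fiber.obj E) :
    P.fiber.map (EtOver.prodFst E₀ E) (pair P e₀ x) = e₀ :=
  (exists_unique_pair P e₀ x).exists.choose_spec.1

lemma pair_snd {E : EtOver X} (x : P.fiber.obj E) :
    P.fiber.map (EtOver.prodSnd E₀ E) (pair P e₀ x) = x :=
  (exists_unique_pair P e₀ x).exists.choose_spec.2

lemma pair_eq {E : EtOver X} {x : P.fiber.obj E} {y : P.fiber.obj (EtOver.prodObj E₀ E)}
    (h1 : P.fiber.map (EtOver.prodFst E₀ E) y = e₀) (h2 : P.fiber.map (EtOver.prodSnd E₀ E) y = x) :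
    pair P e₀ x = y :=
  (exists_unique_pair P e₀ x).unique ⟨pair_fst P e₀ x, pair_snd P e₀ x⟩ ⟨h1, h2⟩

/-- The point over `ξ` of the chart of the product. -/
noncomputable def chartLift {E : EtOver X} (x : P.fiber.obj E) :
    Spec (CommRingCat.of Ω) ⟶ (EtOver.prodObj E₀ E).obj.left.left :=
  (φ.hom.app _ (toSliceFiber P e₀ (EtOver.prodFst E₀ E) (pair P e₀ x) (pair_fst P e₀ x))).left

lemma chartLift_w {E : EtOver X} (x : P.fiber.obj E) :
    chartLift P e₀ φ x ≫ (EtOver.prodFst E₀ E).hom.left.left = ξ :=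
  Over.w (φ.hom.app _ (toSliceFiber P e₀ (EtOver.prodFst E₀ E) (pair P e₀ x) (pair_fst P e₀ x)))

/-- The lift of the geometric point to the product. -/
noncomputable def prodLift {E : EtOver X} (x : P.fiber.obj E) :
    (geomPt ξ).pt ⟶ (EtOver.prodObj E₀ E).obj.left :=
  Over.homMk (geomMap ≫ chartLift P e₀ φ x) (by
    show (geomMap ≫ chartLift P e₀ φ x) ≫ (EtOver.prodObj E₀ E).obj.left.hom =
      (geomMap ≫ ξ) ≫ E₀.obj.left.hom
    rw [← isoChart_w E₀ (EtOver.prodFst E₀ E), Category.assoc, Category.assoc,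
      ← Category.assoc (chartLift P e₀ φ x), chartLift_w])

lemma prodLift_fst {E : EtOver X} (x : P.fiber.obj E) :
    prodLift P e₀ φ x ≫ (EtOver.prodFst E₀ E).hom.left = geomLift ξ := by
  apply Over.OverMorphism.ext
  show (geomMap ≫ chartLift P e₀ φ x) ≫ _ = geomMap ≫ ξ
  rw [Category.assoc, chartLift_w]

/-- An element of the fibre as a lift of the geometric point. -/
noncomputable def lift {E : EtOver X} (x : P.fiber.obj E) : (geomPt ξ).liftsTo.obj E :=
  ⟨prodLift P e₀ φ x ≫ (EtOver.prodSnd E₀ E).hom.left, by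
    rw [Functor.map_comp, Category.assoc, EtOver.w (EtOver.prodSnd E₀ E),
      ← EtOver.w (EtOver.prodFst E₀ E), ← Category.assoc, ← Functor.map_comp, prodLift_fst,
      geomPt_toHom]⟩

lemma lift_injective (E : EtOver X) : Function.Injective (lift P e₀ φ (E := E)) := by
  intro x x' h
  have hv : prodLift P e₀ φ x = prodLift P e₀ φ x' :=
    Functor.relativelyRepresentable.hom_ext' _ (congrArg Subtype.val h)
      ((prodLift_fst P e₀ φ x).trans (prodLift_fst P e₀ φ x').symm)
  haveI : Etale (EtOver.prodFst E₀ E).hom.left.left := EtOver.etale_left _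
  have hl : chartLift P e₀ φ x = chartLift P e₀ φ x' :=
    descend_unique geomMap (EtOver.prodFst E₀ E).hom.left.left ξ (chartLift_w P e₀ φ x)
      (chartLift_w P e₀ φ x') (congrArg CommaMorphism.left hv)
  have hz := (φ.app (ofHom E₀ (EtOver.prodFst E₀ E))).toEquiv.injective
    (a₁ := toSliceFiber P e₀ _ _ (pair_fst P e₀ x)) (a₂ := toSliceFiber P e₀ _ _ (pair_fst P e₀ x'))
    (Over.OverMorphism.ext hl)
  have hy := congrArg (P.fiber.map (isoChart E₀ (EtOver.prodFst E₀ E)).hom) (congrArg Subtype.val hz)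
  simp only [toSliceFiber, ← Functor.map_comp_apply, Iso.inv_hom_id, CategoryTheory.Functor.map_id,
    ConcreteCategory.id_apply] at hy
  rw [← pair_snd P e₀ x, hy, pair_snd]

lemma lift_surjective (E : EtOver X) : Function.Surjective (lift P e₀ φ (E := E)) := by
  rintro ⟨u, hu⟩
  rw [geomPt_toHom] at hu
  let v : (geomPt ξ).pt ⟶ (EtOver.prodObj E₀ E).obj.left :=
    E.property.1.lift' u (geomLift ξ) hu
  have hv : v ≫ (EtOver.prodFst E₀ E).hom.left = geomLift ξ :=
    Functor.relativelyRepresentable.lift'_snd _ _ _ _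
  haveI : Etale (EtOver.prodFst E₀ E).hom.left.left := EtOver.etale_left _
  obtain ⟨l, hl, hl'⟩ := exists_descend geomMap (EtOver.prodFst E₀ E).hom.left.left ξ v.left
    (congrArg CommaMorphism.left hv)
  let w : (Scheme.pointSmallEtale ξ).fiber.obj (ofHom E₀ (EtOver.prodFst E₀ E)) := Over.homMk l hl
  let z := φ.inv.app (ofHom E₀ (EtOver.prodFst E₀ E)) w
  obtain ⟨y, hy⟩ : { y // P.fiber.map (cmor E₀ (ofHom E₀ (EtOver.prodFst E₀ E))) y = e₀ ∧ z.1 = y } :=
    ⟨z.1, by
      have := z.2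
      rw [FunctorToTypes.mem_fromOverSubfunctor_iff] at this
      exact this, rfl⟩
  let x' := P.fiber.map (isoChart E₀ (EtOver.prodFst E₀ E)).hom y
  have h1 : P.fiber.map (EtOver.prodFst E₀ E) x' = e₀ := by
    rw [← Functor.map_comp_apply, isoChart_hom_comp]; exact hy.1
  refine ⟨P.fiber.map (EtOver.prodSnd E₀ E) x', Subtype.ext ?_⟩
  have hp := pair_eq P e₀ h1 rfl
  have hz : toSliceFiber P e₀ (EtOver.prodFst E₀ E)
      (pair P e₀ (P.fiber.map (EtOver.prodSnd E₀ E) x')) (pair_fst P e₀ _) = z := by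
    apply Subtype.ext
    show P.fiber.map (isoChart E₀ (EtOver.prodFst E₀ E)).inv _ = z.1
    rw [hp, ← Functor.map_comp_apply, Iso.hom_inv_id, CategoryTheory.Functor.map_id, hy.2]
    rfl
  have hvv : prodLift P e₀ φ (P.fiber.map (EtOver.prodSnd E₀ E) x') = v := by
    apply Over.OverMorphism.ext
    show geomMap ≫ chartLift P e₀ φ _ = v.left
    rw [chartLift, hz]
    exact (congrArg (fun k => geomMap ≫ k) (congrArg CommaMorphism.left
      ((φ.app (ofHom E₀ (EtOver.prodFst E₀ E))).inv_hom_id_apply w))).trans hl'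
  show prodLift P e₀ φ _ ≫ _ = u
  rw [hvv]
  exact Functor.relativelyRepresentable.lift'_fst _ _ _ _

lemma lift_naturality {E E' : EtOver X} (g : E ⟶ E') (x : P.fiber.obj E) :
    lift P e₀ φ (P.fiber.map g x) = (geomPt ξ).liftsTo.map g (lift P e₀ φ x) := by
  obtain ⟨m, hm1, hm2⟩ : { l : EtOver.prodObj E₀ E ⟶ EtOver.prodObj E₀ E' //
      l ≫ EtOver.prodFst E₀ E' = EtOver.prodFst E₀ E ∧
        l ≫ EtOver.prodSnd E₀ E' = EtOver.prodSnd E₀ E ≫ g } :=
    BinaryFan.IsLimit.lift' (EtOver.prodIsLimit E₀ E')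
      (EtOver.prodFst E₀ E) (EtOver.prodSnd E₀ E ≫ g)
  have hp : pair P e₀ (P.fiber.map g x) = P.fiber.map m (pair P e₀ x) := by
    refine pair_eq P e₀ ?_ ?_
    · rw [← Functor.map_comp_apply, hm1, pair_fst]
    · rw [← Functor.map_comp_apply, hm2, Functor.map_comp_apply, pair_snd]
  let μ : ofHom E₀ (EtOver.prodFst E₀ E) ⟶ ofHom E₀ (EtOver.prodFst E₀ E') :=
    MorphismProperty.Over.homMk m.hom.left.left (congrArg (fun k => k.hom.left.left) hm1) trivial
  have hμ : (chart E₀).map μ ≫ (isoChart E₀ (EtOver.prodFst E₀ E')).hom =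
      (isoChart E₀ (EtOver.prodFst E₀ E)).hom ≫ m :=
    EtOver.hom_ext _ _ (Over.OverMorphism.ext ((Category.comp_id _).trans (Category.id_comp _).symm))
  have hz : (slicePoint P e₀).fiber.map μ
      (toSliceFiber P e₀ (EtOver.prodFst E₀ E) (pair P e₀ x) (pair_fst P e₀ x)) =
      toSliceFiber P e₀ (EtOver.prodFst E₀ E') (pair P e₀ (P.fiber.map g x)) (pair_fst P e₀ _) := by
    apply Subtype.ext
    show P.fiber.map ((chart E₀).map μ) (P.fiber.map _ _) = P.fiber.map _ (pair P e₀ (P.fiber.map g x))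
    rw [hp, ← Functor.map_comp_apply, ← Functor.map_comp_apply]
    refine congrArg (fun k => P.fiber.map k (pair P e₀ x)) ?_
    rw [Iso.inv_comp_eq, ← Category.assoc, ← hμ, Category.assoc, Iso.hom_inv_id, Category.comp_id]
  have hl : chartLift P e₀ φ (P.fiber.map g x) = chartLift P e₀ φ x ≫ m.hom.left.left := by
    have := NatTrans.naturality_apply φ.hom μ
      (toSliceFiber P e₀ (EtOver.prodFst E₀ E) (pair P e₀ x) (pair_fst P e₀ x))
    rw [hz] at this
    exact congrArg CommaMorphism.left this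
  apply Subtype.ext
  show prodLift P e₀ φ _ ≫ _ = (prodLift P e₀ φ x ≫ _) ≫ g.hom.left
  have hv : prodLift P e₀ φ (P.fiber.map g x) = prodLift P e₀ φ x ≫ m.hom.left := by
    apply Over.OverMorphism.ext
    show geomMap ≫ chartLift P e₀ φ (P.fiber.map g x) = (geomMap ≫ chartLift P e₀ φ x) ≫ m.hom.left.left
    rw [hl, Category.assoc]
  rw [hv, Category.assoc, Category.assoc]
  exact congrArg (fun k => prodLift P e₀ φ x ≫ k) (congrArg (fun k => k.hom.left) hm2)

/-- The fibre functor of `P` is that of the geometric point. -/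
noncomputable def fiberIso : P.fiber ≅ (geomPt ξ).liftsTo :=
  NatIso.ofComponents
    (fun E => (Equiv.ofBijective (lift P e₀ φ (E := E))
      ⟨lift_injective P e₀ φ E, lift_surjective P e₀ φ E⟩).toIso)
    (fun g => by ext x; exact lift_naturality P e₀ φ g x)

omit e₀ φ in
theorem exists_geometric_fiber :
    ∃ p : FieldPt X, p.IsGeometric ∧ Nonempty (P.fiber ≅ p.liftsTo) := by
  obtain ⟨⟨E, e⟩⟩ := (inferInstance : IsCofiltered P.fiber.Elements).nonempty
  obtain ⟨Ω', _, _, ξ', ⟨φ'⟩⟩ := EtPtLib.exists_geometric (slicePoint P e)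
  exact ⟨geomPt ξ', AlgebraicClosure.isAlgClosed Ω', ⟨fiberIso P e φ'⟩⟩

/-- Points with isomorphic fibre functors have isomorphic stalk functors. -/
theorem exists_geometric_stalk :
    ∃ p : FieldPt X, p.IsGeometric ∧
      Nonempty (P.sheafFiber (A := Type (u + 1)) ≅ stalkEtFunctor (Type (u + 1)) p) := by
  obtain ⟨p, hp, ⟨e⟩⟩ := exists_geometric_fiber P
  let ee : P.fiber.Elements ≌ p.liftsTo.Elements := Cat.equivOfIso (Functor.elementsFunctor.mapIso e)
  let Φ : GrothendieckTopology.Point.{u} (etTop X) :=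
    { fiber := p.liftsTo
      isCofiltered := IsCofiltered.of_equivalence ee
      initiallySmall := initiallySmall_of_initial_of_initiallySmall ee.functor
      jointly_surjective := fun {E} R hR x => by
        obtain ⟨Y, f, hf, y, hy⟩ := P.jointly_surjective R hR (e.inv.app E x)
        refine ⟨Y, f, hf, e.hom.app Y y, ?_⟩
        rw [← NatTrans.naturality_apply, hy, ← ConcreteCategory.comp_apply, Iso.inv_hom_id_app]
        rfl }
  let i : P ≅ Φ :=
    { hom := ⟨e.inv⟩
      inv := ⟨e.hom⟩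
      hom_inv_id := by ext : 1; exact e.hom_inv_id
      inv_hom_id := by ext : 1; exact e.inv_hom_id }
  exact ⟨p, hp, ⟨
    { hom := i.inv.sheafFiber
      inv := i.hom.sheafFiber
      hom_inv_id := by
        rw [← GrothendieckTopology.Point.Hom.sheafFiber_comp, i.hom_inv_id,
          GrothendieckTopology.Point.Hom.sheafFiber_id]

      inv_hom_id := by
        rw [← GrothendieckTopology.Point.Hom.sheafFiber_comp, i.inv_hom_id,
          GrothendieckTopology.Point.Hom.sheafFiber_id]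
        rfl }⟩⟩

end Groth.Agent.EtPt19
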