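import Groth.Prelude.Def_AlgSpOX3
import Groth.Agent.EtPtLib.Classify
import Mathlib.CategoryTheory.Sites.Point.Over

/-! A point of the small etale site of an algebraic space is the point of a geometric point:
slicing at an element of the fibre reduces to the classification of points of the small etale
site of a scheme. -/

set_option linter.all false
set_option backward.isDefEq.respectTransparency false
set_option backward.isDefEq.respectTransparency.types false

universe u

open CategoryTheory Limits AlgebraicGeometry Opposite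
open AlgSp

namespace Groth.Agent.EtPt19

/-- An etale scheme has a point over a separably closed field at each point over its image. -/
lemma exists_lift {Ω : Type u} [Field Ω] [IsSepClosed Ω] {Z B : Scheme.{u}}
    (f : Z ⟶ B) [Etale f] (z : Z) (ξ : Spec (CommRingCat.of Ω) ⟶ B) (hz : f z = ξ default) :
    ∃ s : Spec (CommRingCat.of Ω) ⟶ Z, s ≫ f = ξ ∧ s default = z := by
  obtain ⟨⟨x, a⟩, hxa⟩ := (Scheme.SpecToEquivOfField Ω B).symm.surjective ξ
  replace hxa : Spec.map a ≫ B.fromSpecResidueField x = ξ := hxa
  have hxz : x = f z := by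
    rw [hz, ← hxa, Scheme.Hom.comp_apply, Scheme.fromSpecResidueField_apply]
  subst hxz
  algebraize [(f.residueFieldMap z).hom, a.hom]
  let b : Z.residueField z →ₐ[B.residueField (f z)] Ω := IsSepClosed.lift
  have hfac : f.residueFieldMap z ≫ CommRingCat.ofHom b.toRingHom = a := by
    ext1; exact b.comp_algebraMap
  refine ⟨Spec.map (CommRingCat.ofHom b.toRingHom) ≫ Z.fromSpecResidueField z, ?_, ?_⟩
  · rw [← hxa, ← hfac, Spec.map_comp, Category.assoc, Category.assoc,
      Scheme.Hom.SpecMap_residueFieldMap_fromSpecResidueField]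
  · rw [Scheme.Hom.comp_apply]
    have hm := Set.mem_range_self (f := (Z.fromSpecResidueField z : _ → Z)) ((Spec.map (CommRingCat.ofHom b.toRingHom)) default)
    rw [Scheme.range_fromSpecResidueField] at hm
    exact hm

/-- A point, in an etale scheme over `Spec Ω` with `Ω` separably closed, is the image of a section. -/
lemma exists_section {Ω : Type u} [Field Ω] [IsSepClosed Ω] {Z : Scheme.{u}}
    (f : Z ⟶ Spec (CommRingCat.of Ω)) [Etale f] (z : Z) :
    ∃ s : Spec (CommRingCat.of Ω) ⟶ Z, s ≫ f = 𝟙 _ ∧ s default = z :=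
  exists_lift f z (𝟙 _) (Subsingleton.elim _ _)

lemma isOpenImmersion_section {A B : Scheme.{u}} (f : A ⟶ B) [Etale f] (s : B ⟶ A)
    (h : s ≫ f = 𝟙 B) : IsOpenImmersion s := by
  haveI : MorphismProperty.HasOfPostcompProperty (@IsOpenImmersion : MorphismProperty Scheme.{u}) @Etale :=
    MorphismProperty.hasOfPostcompProperty_iff_le_diagonal.2 (fun {_ _} g hg => by
      haveI : Etale g := hg
      show IsOpenImmersion (pullback.diagonal g)
      infer_instance)
  exact MorphismProperty.of_postcomp (W := @IsOpenImmersion) (W' := @Etale) s f inferInstance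
    (by rw [h]; infer_instance)

variable {Ω K : Type u} [Field Ω] [IsSepClosed Ω] [Field K]
  (ι : Spec (CommRingCat.of K) ⟶ Spec (CommRingCat.of Ω))
  {U V : Scheme.{u}} (h : V ⟶ U) [Etale h] (ξ : Spec (CommRingCat.of Ω) ⟶ U)

lemma exists_descend (w : Spec (CommRingCat.of K) ⟶ V) (hw : w ≫ h = ι ≫ ξ) :
    ∃ l : Spec (CommRingCat.of Ω) ⟶ V, l ≫ h = ξ ∧ ι ≫ l = w := by
  let q := pullback.lift w ι hw
  haveI : Etale (pullback.snd h ξ) := MorphismProperty.pullback_snd _ _ ‹Etale h›
  obtain ⟨s, hs, hz⟩ := exists_section (pullback.snd h ξ) (q default)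
  haveI := isOpenImmersion_section _ s hs
  have hr : Set.range q ⊆ Set.range s := by
    rintro _ ⟨a, rfl⟩
    exact ⟨default, by rw [hz, Subsingleton.elim a default]⟩
  have hq : IsOpenImmersion.lift s q hr = ι := by
    calc IsOpenImmersion.lift s q hr = IsOpenImmersion.lift s q hr ≫ s ≫ pullback.snd h ξ := by
          rw [hs, Category.comp_id]
      _ = ι := by rw [← Category.assoc, IsOpenImmersion.lift_fac, pullback.lift_snd]
  refine ⟨s ≫ pullback.fst h ξ, ?_, ?_⟩
  · rw [Category.assoc, pullback.condition, ← Category.assoc, hs, Category.id_comp]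
  · rw [← Category.assoc]
    conv_lhs => rw [← hq, IsOpenImmersion.lift_fac]
    exact pullback.lift_fst _ _ _

lemma descend_unique {l l' : Spec (CommRingCat.of Ω) ⟶ V} (hl : l ≫ h = ξ) (hl' : l' ≫ h = ξ)
    (he : ι ≫ l = ι ≫ l') : l = l' := by
  haveI : Etale (pullback.snd h ξ) := MorphismProperty.pullback_snd _ _ ‹Etale h›
  let s := pullback.lift l (𝟙 _) (hl.trans (Category.id_comp ξ).symm)
  let s' := pullback.lift l' (𝟙 _) (hl'.trans (Category.id_comp ξ).symm)
  have hs : s ≫ pullback.snd h ξ = 𝟙 _ := pullback.lift_snd _ _ _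
  have hs' : s' ≫ pullback.snd h ξ = 𝟙 _ := pullback.lift_snd _ _ _
  haveI := isOpenImmersion_section _ s hs
  have hι : ι ≫ s = ι ≫ s' := by
    apply pullback.hom_ext
    · simp [s, s', he]
    · simp [hs, hs']
  have hr : Set.range s' ⊆ Set.range s := by
    rintro _ ⟨a, rfl⟩
    obtain rfl : a = ι default := Subsingleton.elim _ _
    exact ⟨ι default, congrArg (fun k => k default) hι⟩
  have hq : IsOpenImmersion.lift s s' hr = 𝟙 _ := by
    calc IsOpenImmersion.lift s s' hr = IsOpenImmersion.lift s s' hr ≫ s ≫ pullback.snd h ξ := by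
          rw [hs, Category.comp_id]
      _ = 𝟙 _ := by rw [← Category.assoc, IsOpenImmersion.lift_fac, hs']
  have hss : s = s' := by
    rw [← IsOpenImmersion.lift_fac s s' hr, hq, Category.id_comp]
  calc l = s ≫ pullback.fst h ξ := (pullback.lift_fst _ _ _).symm
    _ = s' ≫ pullback.fst h ξ := by rw [hss]
    _ = l' := pullback.lift_fst _ _ _

section Elements

variable {C D : Type*} [Category C] [Category D] (G : C ⥤ D) (F : D ⥤ Type u)

/-- The functor between categories of elements given by precomposition. -/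
noncomputable def preElements : (G ⋙ F).Elements ⥤ F.Elements where
  obj e := ⟨G.obj e.1, e.2⟩
  map g := ⟨G.map g.1, g.2⟩
  map_id e := Subtype.ext (G.map_id _)
  map_comp g g' := Subtype.ext (G.map_comp _ _)

instance preElements_faithful [G.Faithful] : (preElements G F).Faithful where
  map_injective h := Subtype.ext (G.map_injective (congrArg Subtype.val h))

instance preElements_full [G.Full] : (preElements G F).Full where
  map_surjective {e e'} g := by
    obtain ⟨φ, hφ⟩ := G.map_surjective g.1
    refine ⟨⟨φ, ?_⟩, Subtype.ext hφ⟩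
    have := g.2
    rw [← hφ] at this
    exact this

instance preElements_essSurj [G.EssSurj] : (preElements G F).EssSurj where
  mem_essImage e := ⟨⟨G.objPreimage e.1, F.map (G.objObjPreimageIso e.1).inv e.2⟩,
    ⟨CategoryOfElements.isoMk (preElements G F |>.obj ⟨G.objPreimage e.1,
      F.map (G.objObjPreimageIso e.1).inv e.2⟩) e (G.objObjPreimageIso e.1) (by
        show F.map (G.objObjPreimageIso e.1).hom (F.map (G.objObjPreimageIso e.1).inv e.2) = e.2
        rw [← Functor.map_comp_apply]
        simp)⟩⟩

instance preElements_isEquivalence [G.IsEquivalence] : (preElements G F).IsEquivalence where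

end Elements

variable {S : Scheme.{u}} {X : Sp S} (P : GrothendieckTopology.Point.{u} (etTop X))
  (E₀ : EtOver X)

/-- The chart functor at an object of the site. -/
noncomputable abbrev chart : E₀.obj.left.left.Etale ⥤ EtOver X :=
  EtOver.ofChart E₀.obj.hom E₀.property

/-- The structure morphism of a chart object to `E₀`. -/
noncomputable def cmor (V : E₀.obj.left.left.Etale) : (chart E₀).obj V ⟶ E₀ :=
  EtOver.homMk (EtOver.homOfEtale V) rfl

lemma chart_map_cmor {V V' : E₀.obj.left.left.Etale} (φ : V ⟶ V') :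
    (chart E₀).map φ ≫ cmor E₀ V' = cmor E₀ V := by
  apply EtOver.hom_ext
  apply Over.OverMorphism.ext
  exact MorphismProperty.Over.w φ

/-- Etale schemes over the scheme of `E₀` are the objects of the site over `E₀`. -/
noncomputable def toSlice : E₀.obj.left.left.Etale ⥤ Over E₀ where
  obj V := Over.mk (cmor E₀ V)
  map φ := Over.homMk ((chart E₀).map φ) (chart_map_cmor E₀ φ)
  map_id V := Over.OverMorphism.ext ((chart E₀).map_id V)
  map_comp φ ψ := Over.OverMorphism.ext ((chart E₀).map_comp φ ψ)

instance toSlice_faithful : (toSlice E₀).Faithful where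
  map_injective h := (chart E₀).map_injective (congrArg CommaMorphism.left h)

instance toSlice_full : (toSlice E₀).Full where
  map_surjective {V V'} g := by
    have hw : g.left.hom.left.left ≫ V'.hom = V.hom :=
      congrArg (fun k => k.hom.left.left) (Over.w g)
    exact ⟨MorphismProperty.Over.homMk g.left.hom.left.left hw trivial,
      Over.OverMorphism.ext (EtOver.hom_ext _ _ (Over.OverMorphism.ext rfl))⟩

/-- An object over `E₀` as an etale scheme over the scheme of `E₀`. -/
noncomputable def ofHom {E : EtOver X} (h : E ⟶ E₀) : E₀.obj.left.left.Etale :=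
  MorphismProperty.Over.mk ⊤ h.hom.left.left (EtOver.etale_left h)

lemma isoChart_w {E : EtOver X} (h : E ⟶ E₀) :
    h.hom.left.left ≫ E₀.obj.left.hom = E.obj.left.hom := Over.w h.hom.left

/-- The chart object of `ofHom h` is the given object. -/
noncomputable def isoChart {E : EtOver X} (h : E ⟶ E₀) : (chart E₀).obj (ofHom E₀ h) ≅ E :=
  (ObjectProperty.fullyFaithfulι _).preimageIso
    (CostructuredArrow.isoMk (Over.isoMk (Iso.refl E.obj.left.left) (by
      show 𝟙 _ ≫ E.obj.left.hom = h.hom.left.left ≫ E₀.obj.left.hom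
      rw [Category.id_comp, isoChart_w])) (by
      show (yon S).map _ ≫ E.obj.hom = (yon S).map _ ≫ E₀.obj.hom
      rw [← EtOver.w h, ← Category.assoc, ← Functor.map_comp]
      congr 2))

lemma isoChart_hom_comp {E : EtOver X} (h : E ⟶ E₀) :
    (isoChart E₀ h).hom ≫ h = cmor E₀ (ofHom E₀ h) :=
  EtOver.hom_ext _ _ (Over.OverMorphism.ext (Category.id_comp _))

lemma isoChart_inv_comp {E : EtOver X} (h : E ⟶ E₀) :
    (isoChart E₀ h).inv ≫ cmor E₀ (ofHom E₀ h) = h := by
  rw [← isoChart_hom_comp, Iso.inv_hom_id_assoc]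

instance toSlice_essSurj : (toSlice E₀).EssSurj where
  mem_essImage T := ⟨ofHom E₀ T.hom, ⟨Over.isoMk (isoChart E₀ T.hom) (isoChart_hom_comp E₀ T.hom)⟩⟩

instance toSlice_isEquivalence : (toSlice E₀).IsEquivalence where

variable {E₀} (e₀ : P.fiber.obj E₀)

/-- The point of the small etale site of the scheme of `E₀` given by `(P, e₀)`. -/
noncomputable def slicePoint :
    GrothendieckTopology.Point.{u} E₀.obj.left.left.smallEtaleTopology where
  fiber := toSlice E₀ ⋙ (P.over e₀).fiber
  isCofiltered := IsCofiltered.of_equivalence (preElements (toSlice E₀) (P.over e₀).fiber).asEquivalence.symm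
  initiallySmall :=
    initiallySmall_of_initial_of_initiallySmall
      (preElements (toSlice E₀) (P.over e₀).fiber).asEquivalence.inverse
  jointly_surjective := by
    intro V R hR x
    obtain ⟨y, hy⟩ := x
    obtain ⟨C, _, _, hC⟩ := (Scheme.mem_smallGrothendieckTopology _ _).1 hR
    have key : ∀ i : C.I₀, ∃ (Z : E₀.obj.left.left.Etale) (f : Z ⟶ V),
        R f ∧ Set.range f.left = Set.range (C.f i) :=
      fun i => ⟨_, _, hC _ _ ⟨i⟩, rfl⟩
    choose Z f hf hrg using key
    have hcov : Sieve.ofArrows _ (fun i => (chart E₀).map (f i)) ∈ etTop X ((chart E₀).obj V) := by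
      refine ofArrows_mem_etTop _ _ fun v => ?_
      obtain ⟨i, hi⟩ := ((Scheme.ofArrows_mem_precoverage_iff _).1 C.mem₀).1 v
      exact ⟨i, (hrg i).symm ▸ hi⟩
    obtain ⟨T, g, ⟨_, b, _, ⟨i⟩, fac⟩, t, ht⟩ := P.jointly_surjective _ hcov y
    refine ⟨Z i, f i, hf i, ⟨P.fiber.map b t, ?_⟩, Subtype.ext ?_⟩
    · rw [FunctorToTypes.mem_fromOverSubfunctor_iff] at hy ⊢
      show P.fiber.map (cmor E₀ (Z i)) (P.fiber.map b t) = e₀
      refine Eq.trans ?_ hy
      show _ = P.fiber.map (cmor E₀ V) y
      rw [← ht, ← fac, ← Functor.map_comp_apply, ← Functor.map_comp_apply, Category.assoc,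
        chart_map_cmor]
    · show P.fiber.map ((chart E₀).map (f i)) (P.fiber.map b t) = y
      rw [← Functor.map_comp_apply, fac, ht]

/-- An element over `e₀` as an element of the slice point. -/
noncomputable def toSliceFiber {E : EtOver X} (h : E ⟶ E₀) (x : P.fiber.obj E)
    (hx : P.fiber.map h x = e₀) : (slicePoint P e₀).fiber.obj (ofHom E₀ h) :=
  ⟨P.fiber.map (isoChart E₀ h).inv x, by
    rw [FunctorToTypes.mem_fromOverSubfunctor_iff]
    show P.fiber.map (cmor E₀ _) _ = e₀
    rw [← Functor.map_comp_apply, isoChart_inv_comp, hx]⟩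

end Groth.Agent.EtPt19
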